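import Groth.Agent.SmCartier.Ring
import Groth.Agent.FibFlat.Stalk

/-!
With a separable residue extension, some element of the maximal ideal has a nonzero differential unless
the fibre is reduced to the point.
-/

set_option autoImplicit false
set_option linter.style.haveILetI false
universe u

open IsLocalRing TensorProduct

namespace Groth.Agent.SmCartier

theorem maximalIdeal_le_of_forall_D_mem {A B : Type u} [CommRing A] [IsLocalRing A] [CommRing B] [IsLocalRing B]
    [Algebra A B] [IsLocalHom (algebraMap A B)]
    [Algebra.FormallySmooth (ResidueField A) (ResidueField B)]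
    (hd : ∀ h ∈ maximalIdeal B, KaehlerDifferential.D A B h ∈ maximalIdeal B • (⊤ : Submodule B Ω[B⁄A])) :
    maximalIdeal B ≤ (maximalIdeal A).map (algebraMap A B) ⊔ maximalIdeal B ^ 2 := by
  let J : Ideal B := (maximalIdeal A).map (algebraMap A B) ⊔ maximalIdeal B ^ 2
  have hJm : J ≤ maximalIdeal B := sup_le (Ideal.map_le_iff_le_comap.2
    fun a ha => (mem_maximalIdeal _).2 fun hu => (mem_maximalIdeal a).1 ha ((isUnit_map_iff (algebraMap A B) a).1 hu))
    (Ideal.pow_le_self two_ne_zero)
  let ρ : ResidueField A →+* B ⧸ J := Ideal.Quotient.lift (maximalIdeal A)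
    ((Ideal.Quotient.mk J).comp (algebraMap A B))
    fun a ha => Ideal.Quotient.eq_zero_iff_mem.2 (Ideal.mem_sup_left (Ideal.mem_map_of_mem _ ha))
  letI : Algebra (ResidueField A) (B ⧸ J) := ρ.toAlgebra
  let g : (B ⧸ J) →ₐ[ResidueField A] ResidueField B :=
    { Ideal.Quotient.lift J (residue B) (fun b hb => (residue_eq_zero_iff b).2 (hJm hb)) with
      commutes' := fun r => by
        obtain ⟨r, rfl⟩ := residue_surjective r
        rfl }
  have hgs : Function.Surjective g := fun y => by
    obtain ⟨b, rfl⟩ := residue_surjective y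
    exact ⟨Ideal.Quotient.mk J b, rfl⟩
  have hker : RingHom.ker g = (maximalIdeal B).map (Ideal.Quotient.mk J) := by
    refine le_antisymm (fun z hz => ?_) (Ideal.map_le_iff_le_comap.2 fun b hb => RingHom.mem_ker.2 ((residue_eq_zero_iff b).2 hb))
    obtain ⟨b, rfl⟩ := Ideal.Quotient.mk_surjective z
    exact Ideal.mem_map_of_mem _ ((residue_eq_zero_iff b).1 (RingHom.mem_ker.1 hz))
  have hsq : RingHom.ker g ^ 2 = ⊥ := by
    rw [hker, ← Ideal.map_pow, ← le_bot_iff, Ideal.map_le_iff_le_comap]
    exact fun b hb => Ideal.Quotient.eq_zero_iff_mem.2 (Ideal.mem_sup_right hb)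
  let σ := Algebra.FormallySmooth.liftOfSurjective (AlgHom.id (ResidueField A) (ResidueField B)) g hgs ⟨2, hsq⟩
  have hσ : ∀ y, g (σ y) = y := fun y => Algebra.FormallySmooth.liftOfSurjective_apply _ g hgs ⟨2, hsq⟩ y
  let δ₀ : B →+ B ⧸ J := (Ideal.Quotient.mk J).toAddMonoidHom - (σ.toRingHom.comp (residue B)).toAddMonoidHom
  have hδ : ∀ b, δ₀ b ∈ RingHom.ker g := fun b => RingHom.mem_ker.2 (by
    show g (Ideal.Quotient.mk J b - σ (residue B b)) = 0
    rw [map_sub, hσ]
    exact sub_self _)
  have hmul : ∀ y z, y ∈ RingHom.ker g → z ∈ RingHom.ker g → y * z = 0 := fun y z hy hz => by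
    rw [← Ideal.mem_bot, ← hsq, pow_two]; exact Ideal.mul_mem_mul hy hz
  let δ : Derivation A B (B ⧸ J) := Derivation.mk'
    { toFun := δ₀
      map_add' := map_add δ₀
      map_smul' := fun a b => by
        show Ideal.Quotient.mk J (a • b) - σ (residue B (a • b)) = a • (Ideal.Quotient.mk J b - σ (residue B b))
        rw [Algebra.smul_def, map_mul, map_mul, map_mul, Algebra.smul_def, mul_sub]
        congr 1
        congr 1
        exact σ.commutes (residue A a) }
    (fun a b => by
      show Ideal.Quotient.mk J (a * b) - σ (residue B (a * b)) =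
        a • (Ideal.Quotient.mk J b - σ (residue B b)) + b • (Ideal.Quotient.mk J a - σ (residue B a))
      rw [Algebra.smul_def, Algebra.smul_def, map_mul, map_mul, map_mul]
      have := hmul _ _ (hδ a) (hδ b)
      change (Ideal.Quotient.mk J a - σ (residue B a)) * (Ideal.Quotient.mk J b - σ (residue B b)) = 0 at this
      show _ = Ideal.Quotient.mk J a * _ + Ideal.Quotient.mk J b * _
      linear_combination (-1 : B ⧸ J) * this)
  let L := δ.liftKaehlerDifferential
  have hL : ∀ w, L w ∈ RingHom.ker g := fun w => by
    have hw : w ∈ Submodule.span B (Set.range (KaehlerDifferential.D A B)) := by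
      rw [KaehlerDifferential.span_range_derivation]; trivial
    induction hw using Submodule.span_induction with
    | mem x hx =>
      obtain ⟨b, rfl⟩ := hx
      rw [Derivation.liftKaehlerDifferential_comp_D]
      exact hδ b
    | zero => rw [map_zero]; exact zero_mem _
    | add x y _ _ hx hy => rw [map_add]; exact add_mem hx hy
    | smul a x _ hx => rw [map_smul, Algebra.smul_def]; exact Ideal.mul_mem_left _ _ hx
  intro h hh
  have h0 : L (KaehlerDifferential.D A B h) = 0 :=
    Submodule.smul_induction_on (p := fun w => L w = 0) (hd h hh)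
      (fun c hc w _ => by
        rw [map_smul, Algebra.smul_def]
        exact hmul _ _ (hker ▸ Ideal.mem_map_of_mem _ hc) (hL w))
      (fun a b ha hb => by rw [map_add, ha, hb, add_zero])
  rw [Derivation.liftKaehlerDifferential_comp_D] at h0
  change Ideal.Quotient.mk J h - σ (residue B h) = 0 at h0
  rw [show residue B h = 0 from (residue_eq_zero_iff h).2 hh, map_zero, sub_zero] at h0
  exact Ideal.Quotient.eq_zero_iff_mem.1 h0

end Groth.Agent.SmCartier
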