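import Groth.Agent.SmCartier.Ring
import Groth.Agent.SmCartier.Sep
import Mathlib

/-!
Étale slices of smooth algebras through a point closed in its fibre with separable residue extension.
-/

set_option autoImplicit false
set_option linter.style.haveILetI false
universe u

open IsLocalRing TensorProduct CategoryTheory AlgebraicGeometry

namespace Groth.Agent.SmCartier

/-- `Ω` is generated mod `m` by `n` differentials. -/
def GenLE (R B : Type u) [CommRing R] [CommRing B] [IsLocalRing B] [Algebra R B] (n : ℕ) : Prop :=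
  ∃ s : Finset B, s.card ≤ n ∧ (⊤ : Submodule B Ω[B⁄R]) ≤
    Submodule.span B (KaehlerDifferential.D R B '' (s : Set B)) ⊔ maximalIdeal B • (⊤ : Submodule B Ω[B⁄R])

theorem GenLE.exists_of_finite (R B : Type u) [CommRing R] [CommRing B] [IsLocalRing B] [Algebra R B]
    [Module.Finite B Ω[B⁄R]] : ∃ n, GenLE R B n := by
  classical
  obtain ⟨t, ht, hs⟩ := (Submodule.fg_span_iff_fg_span_finset_subset _).1
    (show (Submodule.span B (Set.range (KaehlerDifferential.D R B))).FG by
      rw [KaehlerDifferential.span_range_derivation]; exact Module.Finite.fg_top)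
  obtain ⟨s, -, hst⟩ := Finset.subset_set_image_iff.1 (by rw [Set.image_univ]; exact ht :
    (t : Set Ω[B⁄R]) ⊆ KaehlerDifferential.D R B '' Set.univ)
  refine ⟨s.card, s, le_rfl, le_sup_of_le_left ?_⟩
  rw [← KaehlerDifferential.span_range_derivation R B, hs, ← hst, Finset.coe_image]

/-- The exchange step. -/
theorem GenLE.drop {R B B' : Type u} [CommRing R] [CommRing B] [IsLocalRing B] [CommRing B'] [IsLocalRing B']
    [Algebra R B] [Algebra R B'] (φ : B →ₐ[R] B') (hφ : Function.Surjective φ) {n : ℕ} (hn : GenLE R B n) (a : B)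
    (ha : φ a = 0)
    (hd : KaehlerDifferential.D R B a ∉ maximalIdeal B • (⊤ : Submodule B Ω[B⁄R])) :
    ∃ k < n, GenLE R B' k := by
  classical
  obtain ⟨s, hsn, hs⟩ := hn
  letI := φ.toRingHom.toAlgebra
  haveI : IsScalarTower R B B' := .of_algebraMap_eq fun r => (φ.commutes r).symm
  let ψ := KaehlerDifferential.map R R B B'
  have hψD : ∀ b, ψ (KaehlerDifferential.D R B b) = KaehlerDifferential.D R B' (φ b) := fun b => KaehlerDifferential.map_D _ _ _ _ b
  have hψs : Function.Surjective ψ := KaehlerDifferential.map_surjective_of_surjective R R B B' hφ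
  haveI : IsLocalHom φ.toRingHom := hφ.isLocalHom φ.toRingHom
  have hψm : ∀ w ∈ maximalIdeal B • (⊤ : Submodule B Ω[B⁄R]), ψ w ∈ maximalIdeal B' • (⊤ : Submodule B' Ω[B'⁄R]) :=
    fun w hw => Submodule.smul_induction_on (p := fun w => ψ w ∈ maximalIdeal B' • (⊤ : Submodule B' Ω[B'⁄R])) hw
      (fun c hc v _ => by
        rw [map_smul, ← IsScalarTower.algebraMap_smul B' c (ψ v)]
        exact Submodule.smul_mem_smul ((mem_maximalIdeal _).2 fun hu =>
          (mem_maximalIdeal c).1 hc ((isUnit_map_iff φ.toRingHom c).1 hu)) trivial)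
      (fun v w hv hw => by rw [map_add]; exact add_mem hv hw)
  obtain ⟨y, hy, z, hz, hyz⟩ := Submodule.mem_sup.1 (hs (trivial : KaehlerDifferential.D R B a ∈ _))
  obtain ⟨c, hc⟩ := (Submodule.mem_span_image_finset_iff_exists_fun' (R := B) (M := Ω[B⁄R])).1 hy
  obtain ⟨j, hj, hcj⟩ : ∃ j ∈ s, c j ∉ maximalIdeal B := by
    by_contra! hall
    exact hd (hyz ▸ add_mem (hc ▸ Submodule.sum_mem _ fun j hj => Submodule.smul_mem_smul (hall j hj) trivial) hz)
  refine ⟨(s.erase j).card, (Finset.card_erase_lt_of_mem hj).trans_le hsn, (s.erase j).image φ, Finset.card_image_le, ?_⟩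
  let T : Submodule B' Ω[B'⁄R] :=
    Submodule.span B' (KaehlerDifferential.D R B' '' ((((s.erase j).image φ : Finset B')) : Set B')) ⊔
      maximalIdeal B' • (⊤ : Submodule B' Ω[B'⁄R])
  have hmem : ∀ i ∈ s.erase j, ψ (KaehlerDifferential.D R B i) ∈ T := fun i hi => by
    rw [hψD]
    exact Submodule.mem_sup_left (Submodule.subset_span ⟨φ i, Finset.mem_coe.2 (Finset.mem_image_of_mem _ hi), rfl⟩)
  have hsmul : ∀ (b : B) w, ψ w ∈ T → ψ (b • w) ∈ T := fun b w hw => by
    rw [map_smul, ← IsScalarTower.algebraMap_smul B' b (ψ w)]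
    exact T.smul_mem _ hw
  have hjT : ψ (KaehlerDifferential.D R B j) ∈ T := by
    obtain ⟨v, hv⟩ : IsUnit (c j) := not_not.1 hcj
    have h1 : c j • KaehlerDifferential.D R B j =
        KaehlerDifferential.D R B a - z - ∑ i ∈ s.erase j, c i • KaehlerDifferential.D R B i := by
      rw [← hyz, add_sub_cancel_right, ← hc, ← Finset.add_sum_erase _ _ hj, add_sub_cancel_right]
    have h2 : KaehlerDifferential.D R B j = (↑v⁻¹ : B) • (c j • KaehlerDifferential.D R B j) := by
      rw [← hv, smul_smul, Units.inv_mul, one_smul]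
    rw [h2]
    refine hsmul _ _ ?_
    rw [h1, map_sub, map_sub, hψD, ha, map_zero, map_sum]
    exact sub_mem (sub_mem (zero_mem _) (Submodule.mem_sup_right (hψm z hz)))
      (Submodule.sum_mem _ fun i hi => hsmul _ _ (hmem i hi))
  intro w _
  obtain ⟨v, rfl⟩ := hψs w
  obtain ⟨v₁, hv₁, v₂, hv₂, rfl⟩ := Submodule.mem_sup.1 (hs (trivial : v ∈ ⊤))
  rw [map_add]
  refine add_mem ?_ (Submodule.mem_sup_right (hψm v₂ hv₂))
  obtain ⟨e, he⟩ := (Submodule.mem_span_image_finset_iff_exists_fun' (R := B) (M := Ω[B⁄R])).1 hv₁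
  rw [← he, map_sum]
  refine Submodule.sum_mem _ fun i hi => hsmul _ _ ?_
  by_cases hij : i = j
  · exact hij ▸ hjT
  · exact hmem i (Finset.mem_erase.2 ⟨hij, hi⟩)

/-- Étale slice, ring form. -/
theorem exists_slice {R : Type u} [CommRing R] (p : Ideal R) [p.IsPrime] (n : ℕ) :
    ∀ (A : Type u) [CommRing A] [Algebra R A] [Algebra.Smooth R A] (q : Ideal A) [q.IsPrime]
      (hp : p = q.comap (algebraMap R A))
      (_hmax : ∀ q' : Ideal A, q'.IsPrime → q'.comap (algebraMap R A) = p → q ≤ q' → q' = q)
      (_hsep : letI := (Ideal.ResidueField.map p q (algebraMap R A) hp).toAlgebra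
        Algebra.IsSeparable p.ResidueField q.ResidueField)
      (_hn : GenLE R (Localization.AtPrime q) n),
    ∃ (T : Type u) (_ : CommRing T) (_ : Algebra R T) (ψ : A →ₐ[R] T),
      IsImmersion (Spec.map (CommRingCat.ofHom ψ.toRingHom)) ∧ Algebra.Etale R T ∧
      ∃ Q : PrimeSpectrum T, Q.asIdeal.comap ψ.toRingHom = q ∧
        ∀ Q' : PrimeSpectrum T, Q'.asIdeal.comap (algebraMap R T) = p → Q' = Q := by
  classical
  induction n using Nat.strong_induction_on with
  | _ n ih =>
  intro A _ _ _ q _ hp hmax hsep hn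
  let B := Localization.AtPrime q
  haveI : q.LiesOver p := ⟨hp⟩
  letI := Localization.AtPrime.algebraOfLiesOver p q
  haveI hsmq : Algebra.IsSmoothAt R q := Set.eq_univ_iff_forall.mp
    (Algebra.smoothLocus_eq_univ_iff.mpr (inferInstance : Algebra.FormallySmooth R A)) ⟨q, inferInstance⟩
  haveI : IsLocalHom (algebraMap (Localization.AtPrime p) B) := by
    rw [Localization.AtPrime.IsLiesOverAlgebra.algebraMap_eq (p := p) (P := q)]
    exact Localization.isLocalHom_localRingHom _ _ _ _
  have hres : ∀ z, algebraMap p.ResidueField q.ResidueField z = Ideal.ResidueField.map p q (algebraMap R A) hp z :=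
    RingHom.congr_fun (Ideal.ResidueField.ringHom_ext (by
      ext r
      simp only [RingHom.comp_apply, Ideal.ResidueField.map_algebraMap]
      exact ((IsScalarTower.algebraMap_apply R p.ResidueField q.ResidueField r).symm).trans
        (IsScalarTower.algebraMap_apply R A q.ResidueField r)))
  haveI hsep' : Algebra.IsSeparable p.ResidueField q.ResidueField := by
    have e : (Ideal.ResidueField.map p q (algebraMap R A) hp).toAlgebra =
        (inferInstance : Algebra p.ResidueField q.ResidueField) :=
      Algebra.algebra_ext _ _ fun z => (hres z).symm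
    rw [e] at hsep
    exact hsep
  by_cases hex : ∃ a ∈ q, KaehlerDifferential.D R B (algebraMap A B a) ∉ maximalIdeal B • (⊤ : Submodule B Ω[B⁄R])
  · obtain ⟨a, haq, hda⟩ := hex
    let I : Ideal A := Ideal.span {a}
    have hIq : I ≤ q := Ideal.span_le.2 (Set.singleton_subset_iff.2 haq)
    haveI : (q.map (Ideal.Quotient.mk I)).IsPrime :=
      Ideal.map_isPrime_of_surjective Ideal.Quotient.mk_surjective (by rw [Ideal.mk_ker]; exact hIq)
    have hqP : q = (q.map (Ideal.Quotient.mk I)).comap (Ideal.Quotient.mk I) := by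
      rw [Ideal.comap_map_of_surjective _ Ideal.Quotient.mk_surjective, ← RingHom.ker_eq_comap_bot, Ideal.mk_ker,
        sup_eq_left.2 hIq]
    haveI := isSmoothAt_quotient a (q.map (Ideal.Quotient.mk I)) q hqP hda
    haveI : Algebra.FinitePresentation R (A ⧸ I) := Algebra.FinitePresentation.quotient ⟨{a}, by simp [I]⟩
    obtain ⟨g, hg, hgs⟩ := Algebra.IsSmoothAt.exists_notMem_smooth R (q.map (Ideal.Quotient.mk I))
    let A' := Localization.Away g
    let ψ₁ : A →ₐ[R] A' := (IsScalarTower.toAlgHom R (A ⧸ I) A').comp (Ideal.Quotient.mkₐ R I)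
    let q' : Ideal A' := (q.map (Ideal.Quotient.mk I)).map (algebraMap (A ⧸ I) A')
    have hdisj : Disjoint (Submonoid.powers g : Set (A ⧸ I)) (q.map (Ideal.Quotient.mk I) : Set (A ⧸ I)) :=
      (Ideal.disjoint_powers_iff_notMem_of_isPrime _).mpr hg
    haveI : q'.IsPrime := IsLocalization.isPrime_of_isPrime_disjoint (.powers g) _ _ ‹_› hdisj
    have hq' : q = q'.comap ψ₁.toRingHom := by
      rw [show ψ₁.toRingHom = (algebraMap (A ⧸ I) A').comp (Ideal.Quotient.mk I) from rfl, ← Ideal.comap_comap,
        show q'.comap (algebraMap (A ⧸ I) A') = q.map (Ideal.Quotient.mk I) from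
          IsLocalization.under_map_of_isPrime_disjoint (.powers g) _ ‹_› hdisj]
      exact hqP
    have himm : IsImmersion (Spec.map (CommRingCat.ofHom ψ₁.toRingHom)) := by
      haveI : IsClosedImmersion (Spec.map (CommRingCat.ofHom (Ideal.Quotient.mk I))) :=
        IsClosedImmersion.spec_of_surjective _ Ideal.Quotient.mk_surjective
      haveI : IsOpenImmersion (Spec.map (CommRingCat.ofHom (algebraMap (A ⧸ I) A'))) :=
        IsOpenImmersion.of_isLocalization g
      rw [show CommRingCat.ofHom ψ₁.toRingHom = CommRingCat.ofHom (Ideal.Quotient.mk I) ≫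
        CommRingCat.ofHom (algebraMap (A ⧸ I) A') from rfl, Spec.map_comp]
      infer_instance
    have hsos : ψ₁.toRingHom.SurjectiveOnStalks :=
      (RingHom.surjectiveOnStalks_of_isLocalization (.powers g) A').comp
        (RingHom.surjectiveOnStalks_of_surjective Ideal.Quotient.mk_surjective)
    have hp' : p = q'.comap (algebraMap R A') := by
      rw [← ψ₁.comp_algebraMap, ← Ideal.comap_comap]
      exact hp.trans (congrArg _ hq')
    let φ : B →ₐ[R] Localization.AtPrime q' :=
      { Localization.localRingHom q q' ψ₁.toRingHom hq' with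
        commutes' := fun r => by
          show Localization.localRingHom q q' ψ₁.toRingHom hq' (algebraMap R B r) = _
          rw [IsScalarTower.algebraMap_apply R A B, Localization.localRingHom_to_map, IsScalarTower.algebraMap_apply R A' (Localization.AtPrime q')]
          exact congrArg _ (ψ₁.commutes r) }
    have hφ₀ : ∀ (J : Ideal A) [J.IsPrime] (h : J = q'.comap ψ₁.toRingHom),
        Function.Surjective (Localization.localRingHom J q' ψ₁.toRingHom h) := fun J _ h => by
      subst h; exact hsos q' ‹_›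
    have hφ : Function.Surjective φ := hφ₀ q hq'
    obtain ⟨k, hk, hgen⟩ := hn.drop φ hφ (algebraMap A B a) (by
      show Localization.localRingHom q q' ψ₁.toRingHom hq' (algebraMap A B a) = 0
      rw [Localization.localRingHom_to_map,
        show ψ₁.toRingHom a = algebraMap (A ⧸ I) A' (Ideal.Quotient.mk I a) from rfl,
        Ideal.Quotient.eq_zero_iff_mem.2 (Ideal.mem_span_singleton_self a), map_zero, map_zero]) hda
    have hemb : Topology.IsEmbedding (Spec.map (CommRingCat.ofHom ψ₁.toRingHom)) :=
      (Spec.map (CommRingCat.ofHom ψ₁.toRingHom)).isEmbedding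
    have hmax' : ∀ Q : Ideal A', Q.IsPrime → Q.comap (algebraMap R A') = p → q' ≤ Q → Q = q' := fun Q hQ hQp hle => by
      have h := hmax (Q.comap ψ₁.toRingHom) (Ideal.comap_isPrime _ _) (by
        rw [Ideal.comap_comap, AlgHom.toRingHom_eq_coe, ψ₁.comp_algebraMap]; exact hQp) (hq'.trans_le (Ideal.comap_mono hle))
      exact congrArg PrimeSpectrum.asIdeal (hemb.injective (show
        Spec.map (CommRingCat.ofHom ψ₁.toRingHom) (⟨Q, hQ⟩ : PrimeSpectrum A') =
          Spec.map (CommRingCat.ofHom ψ₁.toRingHom) (⟨q', inferInstance⟩ : PrimeSpectrum A')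
        from PrimeSpectrum.ext (h.trans hq')))
    have hsep₂ : letI := (Ideal.ResidueField.map p q' (algebraMap R A') hp').toAlgebra
        Algebra.IsSeparable p.ResidueField q'.ResidueField := by
      letI := (Ideal.ResidueField.map p q' (algebraMap R A') hp').toAlgebra
      let ε : q.ResidueField →ₐ[p.ResidueField] q'.ResidueField :=
        { Ideal.ResidueField.map q q' ψ₁.toRingHom hq' with
          commutes' := fun z => RingHom.congr_fun (Ideal.ResidueField.ringHom_ext (f :=
              (Ideal.ResidueField.map q q' ψ₁.toRingHom hq').comp (algebraMap p.ResidueField q.ResidueField))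
              (g := Ideal.ResidueField.map p q' (algebraMap R A') hp') (by
            ext r
            simp only [RingHom.comp_apply, Ideal.ResidueField.map_algebraMap, hres]
            exact congrArg _ (ψ₁.commutes r))) z }
      have hεb : Function.Bijective ε := hsos.residueFieldMap_bijective q q' hq'
      exact AlgEquiv.Algebra.isSeparable (AlgEquiv.ofBijective ε hεb)
    haveI : Algebra.Smooth R A' := hgs
    obtain ⟨T, _, _, ψ, hψ, het, Q, hQ, huniq⟩ := ih k hk A' q' hp' hmax' hsep₂ hgen
    refine ⟨T, inferInstance, inferInstance, ψ.comp ψ₁, ?_, het, Q, ?_, huniq⟩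
    · rw [show CommRingCat.ofHom (ψ.comp ψ₁).toRingHom = CommRingCat.ofHom ψ₁.toRingHom ≫ CommRingCat.ofHom ψ.toRingHom from rfl,
        Spec.map_comp]
      infer_instance
    · exact (congrArg (Ideal.comap ψ₁.toRingHom) hQ).trans hq'.symm
  · push Not at hex
    let Rp := Localization.AtPrime p
    have hall : ∀ h ∈ maximalIdeal B, KaehlerDifferential.D Rp B h ∈ maximalIdeal B • (⊤ : Submodule B Ω[B⁄Rp]) := by
      intro h hh
      obtain ⟨⟨a, s⟩, has⟩ := IsLocalization.surj q.primeCompl h
      have haq : a ∈ q := (IsLocalization.AtPrime.to_map_mem_maximal_iff B q a).1 (has ▸ Ideal.mul_mem_right _ _ hh)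
      obtain ⟨v, hv⟩ := IsLocalization.map_units B s
      have h1 : (↑v : B) • KaehlerDifferential.D R B h ∈ maximalIdeal B • (⊤ : Submodule B Ω[B⁄R]) := by
        have h2 : KaehlerDifferential.D R B (algebraMap A B a) = h • KaehlerDifferential.D R B (↑v : B) + (↑v : B) • KaehlerDifferential.D R B h := by
          rw [hv, ← has, Derivation.leibniz]
        rw [eq_sub_of_add_eq' h2.symm]
        exact sub_mem (hex a haq) (Submodule.smul_mem_smul hh trivial)
      have h3 : KaehlerDifferential.D R B h ∈ maximalIdeal B • (⊤ : Submodule B Ω[B⁄R]) := by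
        have := Submodule.smul_mem _ (↑v⁻¹ : B) h1
        rwa [smul_smul, Units.inv_mul, one_smul] at this
      exact D_mem_smul_map (R := R) (R' := Rp) (B := B) (B' := B) (algebraMap R Rp) (RingHom.id B)
        (fun r => IsScalarTower.algebraMap_apply R Rp B r) h h3
    haveI : Algebra.FormallySmooth (ResidueField Rp) (ResidueField B) :=
      haveI := hsep'
      haveI : Algebra.FormallyEtale p.ResidueField q.ResidueField := Algebra.FormallyEtale.of_isSeparable _ _
      (inferInstance : Algebra.FormallySmooth p.ResidueField q.ResidueField)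
    have hle := maximalIdeal_le_of_forall_D_mem (A := Rp) (B := B) hall
    let J : Ideal B := (maximalIdeal Rp).map (algebraMap Rp B)
    haveI : IsLocalHom (algebraMap Rp B) := inferInstance
    have hJm : J ≤ maximalIdeal B := Ideal.map_le_iff_le_comap.2
      fun x hx => (mem_maximalIdeal _).2 fun hu => (mem_maximalIdeal x).1 hx ((isUnit_map_iff (algebraMap Rp B) x).1 hu)
    have hJ : maximalIdeal B = J := by
      refine le_antisymm ?_ hJm
      haveI : Algebra.EssFiniteType A B := Algebra.EssFiniteType.of_isLocalization _ q.primeCompl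
      haveI : Algebra.EssFiniteType R B := Algebra.EssFiniteType.comp R A B
      haveI : Algebra.EssFiniteType Rp B := .of_comp R _ _
      haveI : Algebra.EssFiniteType B (B ⧸ J) := inferInstance
      haveI : Algebra.EssFiniteType Rp (B ⧸ J) := Algebra.EssFiniteType.comp Rp B (B ⧸ J)
      let ρ : ResidueField Rp →+* B ⧸ J := Ideal.Quotient.lift (maximalIdeal Rp) (algebraMap Rp (B ⧸ J))
        fun x hx => Ideal.Quotient.eq_zero_iff_mem.2 (Ideal.mem_map_of_mem _ hx)
      letI : Algebra (ResidueField Rp) (B ⧸ J) := ρ.toAlgebra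
      haveI : IsScalarTower Rp (ResidueField Rp) (B ⧸ J) := .of_algebraMap_eq fun x => rfl
      haveI : Algebra.EssFiniteType (ResidueField Rp) (B ⧸ J) := .of_comp Rp _ _
      haveI : IsNoetherianRing (B ⧸ J) := Algebra.EssFiniteType.isNoetherianRing (ResidueField Rp) _
      have hmap : (maximalIdeal B).map (Ideal.Quotient.mk J) ≤ (maximalIdeal B).map (Ideal.Quotient.mk J) • (maximalIdeal B).map (Ideal.Quotient.mk J) := by
        refine (Ideal.map_mono hle).trans ?_
        rw [Ideal.map_sup, Ideal.map_quotient_self, bot_sup_eq, Ideal.map_pow, pow_two, smul_eq_mul]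
      have h0 := Submodule.eq_bot_of_le_smul_of_le_jacobson_bot _ _ (IsNoetherian.noetherian _) hmap (by
        haveI : Nontrivial (B ⧸ J) := Ideal.Quotient.nontrivial_iff.2 (ne_top_of_le_ne_top (maximalIdeal.isMaximal B).ne_top hJm)
        haveI : IsLocalRing (B ⧸ J) := IsLocalRing.of_surjective' (Ideal.Quotient.mk J) Ideal.Quotient.mk_surjective
        rw [IsLocalRing.jacobson_eq_maximalIdeal ⊥ bot_ne_top,
          IsLocalRing.map_maximalIdeal_of_surjective _ Ideal.Quotient.mk_surjective])
      rwa [Ideal.map_eq_bot_iff_le_ker, Ideal.mk_ker] at h0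
    haveI : Algebra.IsUnramifiedAt R q := (Algebra.isUnramifiedAt_iff_map_eq R p q).2 ⟨hsep', by
      rw [hJ, IsScalarTower.algebraMap_eq R Rp B, ← Ideal.map_map, Localization.AtPrime.map_eq_maximalIdeal]⟩
    obtain ⟨f₁, hf₁, het⟩ : ∃ f ∉ q, Algebra.Etale R (Localization.Away f) := by
      haveI : Algebra.IsEtaleAt R q := Algebra.FormallyEtale.of_formallyUnramified_and_formallySmooth
      exact Algebra.exists_etale_of_isEtaleAt q
    haveI := het
    let A₁ := Localization.Away f₁
    let q₁ := q.map (algebraMap A A₁)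
    have hdisj : Disjoint (Submonoid.powers f₁ : Set A) (q : Set A) := (Ideal.disjoint_powers_iff_notMem_of_isPrime _).mpr hf₁
    haveI : q₁.IsPrime := IsLocalization.isPrime_of_isPrime_disjoint (.powers f₁) _ _ ‹_› hdisj
    have hq₁ : q₁.comap (algebraMap A A₁) = q := IsLocalization.under_map_of_isPrime_disjoint (.powers f₁) _ ‹_› hdisj
    haveI : q₁.LiesOver p := ⟨by
      show p = q₁.comap (algebraMap R A₁)
      rw [IsScalarTower.algebraMap_eq R A A₁, ← Ideal.comap_comap, hq₁]; exact hp⟩
    obtain ⟨t, ht, htall⟩ := p.exists_not_mem_forall_mem_of_ne_of_liesOver q₁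
    let T := Localization.Away t
    haveI : Algebra.Etale R T := Algebra.Etale.comp R A₁ T
    have hdisj₂ : Disjoint (Submonoid.powers t : Set A₁) (q₁ : Set A₁) := (Ideal.disjoint_powers_iff_notMem_of_isPrime _).mpr ht
    haveI : (q₁.map (algebraMap A₁ T)).IsPrime := IsLocalization.isPrime_of_isPrime_disjoint (.powers t) _ _ ‹_› hdisj₂
    have hQ : (q₁.map (algebraMap A₁ T)).comap (algebraMap A₁ T) = q₁ :=
      IsLocalization.under_map_of_isPrime_disjoint (.powers t) _ ‹_› hdisj₂
    refine ⟨T, inferInstance, inferInstance, (IsScalarTower.toAlgHom R A₁ T).comp (IsScalarTower.toAlgHom R A A₁), ?_,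
      inferInstance, ⟨q₁.map (algebraMap A₁ T), inferInstance⟩, ?_, fun Q' hQ' => ?_⟩
    · haveI : IsOpenImmersion (Spec.map (CommRingCat.ofHom (algebraMap A A₁))) := IsOpenImmersion.of_isLocalization f₁
      haveI : IsOpenImmersion (Spec.map (CommRingCat.ofHom (algebraMap A₁ T))) := IsOpenImmersion.of_isLocalization t
      rw [show CommRingCat.ofHom ((IsScalarTower.toAlgHom R A₁ T).comp (IsScalarTower.toAlgHom R A A₁)).toRingHom =
        CommRingCat.ofHom (algebraMap A A₁) ≫ CommRingCat.ofHom (algebraMap A₁ T) from rfl, Spec.map_comp]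
      infer_instance
    · show (q₁.map (algebraMap A₁ T)).comap ((algebraMap A₁ T).comp (algebraMap A A₁)) = q
      rw [← Ideal.comap_comap, hQ, hq₁]
    · have htQ : t ∉ Q'.asIdeal.comap (algebraMap A₁ T) := fun h =>
        Q'.2.ne_top (Ideal.eq_top_of_isUnit_mem _ h (IsLocalization.Away.algebraMap_isUnit t))
      have heq : Q'.asIdeal.comap (algebraMap A₁ T) = q₁ := by
        by_contra hne
        refine htQ (htall _ (Ideal.comap_isPrime _ _) hne ⟨?_⟩)
        show p = (Q'.asIdeal.comap (algebraMap A₁ T)).comap (algebraMap R A₁)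
        rw [Ideal.comap_comap, ← IsScalarTower.algebraMap_eq]
        exact hQ'.symm
      refine PrimeSpectrum.ext ?_
      show Q'.asIdeal = q₁.map (algebraMap A₁ T)
      rw [← heq]
      exact (IsLocalization.map_under (.powers t) T Q'.asIdeal).symm

end Groth.Agent.SmCartier
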