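import Groth.Agent.SmCartier.Ring
import Groth.Agent.Triage.SliceFlatSch
import Groth.Agent.FibFlat.Stalk
import Groth.Agent.GrpSchLib.SmoothRegular
import Groth.Agent.RegLoc6.Basic

/-!
Smooth effective Cartier divisors through a point.
-/

set_option autoImplicit false
set_option linter.style.haveILetI false
set_option backward.isDefEq.respectTransparency false
universe u

open CategoryTheory AlgebraicGeometry IsLocalRing

namespace Groth.Agent.SmCartier

theorem exists_cartier {X S : Scheme.{u}} (f : X ⟶ S) (x : X) (W : X.Opens) (hxW : x ∈ W) (hW : Smooth (W.ι ≫ f))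
    (h : ↑(X.presheaf.stalk x)) (hm : h ∈ maximalIdeal ↑(X.presheaf.stalk x))
    (hd : letI := (f.stalkMap x).hom.toAlgebra
      KaehlerDifferential.D ↑(S.presheaf.stalk (f x)) ↑(X.presheaf.stalk x) h ∉
        maximalIdeal ↑(X.presheaf.stalk x) •
          (⊤ : Submodule ↑(X.presheaf.stalk x) Ω[↑(X.presheaf.stalk x)⁄↑(S.presheaf.stalk (f x))])) :
    ∃ (U : X.Opens) (hU : IsAffineOpen U) (hx : x ∈ U) (h' : Γ(X, U)), X.presheaf.germ U x hx h' = h ∧
      h' ∈ nonZeroDivisors Γ(X, U) ∧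
      Smooth (Spec.map (CommRingCat.ofHom (Ideal.Quotient.mk (Ideal.span {h'}))) ≫ hU.fromSpec ≫ f) := by
  let f' := W.ι ≫ f
  haveI : Smooth f' := hW
  let x' : W.toScheme := ⟨x, hxW⟩
  let ε := W.ι.stalkMap x'
  haveI : IsIso ε := inferInstance
  have hεb : Function.Bijective ε.hom := ConcreteCategory.bijective_of_isIso ε
  have hf'x : (f'.stalkMap x').hom = ε.hom.comp (f.stalkMap x).hom := by
    rw [Scheme.Hom.stalkMap_comp W.ι f x']; rfl
  have hnm : h ∉ (maximalIdeal (S.presheaf.stalk (f x))).map (f.stalkMap x).hom := fun hc => by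
    letI := (f.stalkMap x).hom.toAlgebra
    haveI : IsLocalHom (algebraMap (S.presheaf.stalk (f x)) (X.presheaf.stalk x)) := inferInstanceAs (IsLocalHom (f.stalkMap x).hom)
    exact hd (D_mem_smul_of_mem_map h hc)
  have hnm' : ε.hom h ∉ (maximalIdeal (S.presheaf.stalk (f' x'))).map (f'.stalkMap x').hom := fun hc => by
    refine hnm ?_
    rw [hf'x, ← Ideal.map_map] at hc
    obtain ⟨y, hy, hye⟩ := (Ideal.mem_map_iff_of_surjective ε.hom hεb.2).1 hc
    exact hεb.1 hye ▸ hy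
  haveI hsmF : Smooth (f'.fiberToSpecResidueField (f' x')) :=
    inferInstanceAs (Smooth (Limits.pullback.snd f' (S.fromSpecResidueField (f' x'))))
  haveI := Groth.Agent.GrpSchLib.isRegularLocalRing_stalk_of_smooth (f'.fiberToSpecResidueField (f' x')) (f'.asFiber x')
  haveI := Groth.Agent.RegLoc6.isDomain_of_isRegularLocalRing ((f'.fiber (f' x')).presheaf.stalk (f'.asFiber x'))
  let φ := FibFlat.sm (f'.fiberι (f' x')) (f'.asFiber x') x' (f'.fiberι_asFiber x')
  have hker : RingHom.ker φ = Ideal.map (f'.stalkMap x').hom (maximalIdeal (S.presheaf.stalk (f' x'))) := by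
    rw [← FibFlat.sm_self f' x']
    exact FibFlat.ker_sm_fiberι f' (f' x') (f'.asFiber x') x' (f'.fiberι_asFiber x')
  have hm' : ε.hom h ∈ maximalIdeal (W.toScheme.presheaf.stalk x') :=
    (mem_maximalIdeal _).2 fun hu => (mem_maximalIdeal h).1 hm ((isUnit_map_iff ε.hom h).1 hu)
  obtain ⟨V, hV, U₀, hU₀, hx₀, -, e₀, hs', hgerm, -, hwr, -⟩ :=
    Triage.SliceFlat.exists_slice_sch f' x' (Flat.stalkMap f' x') [ε.hom h] (by simpa using hm') (fun i hi z hz => by
      obtain rfl : i = 0 := by simpa using hi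
      simp only [List.take_zero, Ideal.ofList_nil, bot_sup_eq, List.getElem_cons_zero] at hz ⊢
      rw [← hker, RingHom.mem_ker, map_mul] at hz
      rw [← hker, RingHom.mem_ker]
      refine (mul_eq_zero.1 hz).resolve_left fun h0 => hnm' ?_
      rw [← hker]; exact h0) ⊤ trivial
  match hs', hgerm with
  | [], hgerm => simp at hgerm
  | _ :: _ :: _, hgerm => simp at hgerm
  | [h₀], hgerm =>
  simp only [List.map_cons, List.map_nil, List.cons.injEq, and_true] at hgerm
  have hnzd₀ : h₀ ∈ nonZeroDivisors Γ(W, U₀) := by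
    have h0 := (RingTheory.Sequence.isWeaklyRegular_cons_iff Γ(W, U₀) h₀ []).1 hwr
    rw [mem_nonZeroDivisors_iff]
    refine ⟨fun z hz => ?_, fun z hz => ?_⟩ <;>
      exact h0.1.right_eq_zero_of_smul (by simpa [smul_eq_mul, mul_comm] using hz)
  let U := W.ι ''ᵁ U₀
  have hU : IsAffineOpen U := hU₀.image_of_isOpenImmersion W.ι
  have hx : x ∈ U := ⟨x', hx₀, rfl⟩
  have hle₀ : U₀ ≤ W.ι ⁻¹ᵁ U := (W.ι.preimage_image_eq U₀).ge
  let ι₀ := W.ι.appLE U U₀ hle₀
  haveI : IsIso ι₀ := by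
    have : ι₀ = (W.ι.appIso U₀).hom := by
      simp [ι₀, Scheme.Hom.appIso_hom, Scheme.Hom.appLE]
      exact X.presheaf.map_id _
    rw [this]; infer_instance
  have e : U ≤ f ⁻¹ᵁ V := by
    rintro _ ⟨y, hy, rfl⟩
    exact e₀ hy
  have hsm : (f.appLE V U e).hom.Smooth := by
    have h1 : ((f.appLE V U e) ≫ ι₀).hom.Smooth := by
      rw [Scheme.Hom.appLE_comp_appLE]
      exact HasRingHomProperty.appLE (P := @Smooth) f' inferInstance ⟨V, hV⟩ ⟨U₀, hU₀⟩ e₀
    exact (RingHom.Smooth.respectsIso.cancel_right_isIso (f.appLE V U e) ι₀).1 h1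
  obtain ⟨hh, hhh⟩ := (ConcreteCategory.bijective_of_isIso ι₀).2 h₀
  have hgh : X.presheaf.germ U x hx hh = h := by
    refine hεb.1 ?_
    rw [← hgerm, ← hhh]
    show ε (X.presheaf.germ U x hx hh) = _
    refine (Scheme.Hom.germ_stalkMap_apply W.ι U x' hx hh).trans ?_
    exact (TopCat.Presheaf.germ_res_apply W.toScheme.presheaf (homOfLE hle₀) x' hx₀ _).symm
  have hnz : hh ∈ nonZeroDivisors Γ(X, U) := mem_nonZeroDivisors_iff_right.2 fun z hz => by
    refine (ConcreteCategory.bijective_of_isIso ι₀).1 ?_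
    rw [map_zero]
    refine (mem_nonZeroDivisors_iff_right.1 hnzd₀) _ ?_
    rw [← hhh, ← map_mul, hz, map_zero]
  algebraize [(f.appLE V U e).hom]
  let q := (hU.primeIdealOf ⟨x, hx⟩).asIdeal
  letI := TopCat.Presheaf.algebra_section_stalk X.presheaf (⟨x, hx⟩ : U)
  haveI : IsLocalization.AtPrime (X.presheaf.stalk x) q := hU.isLocalization_stalk ⟨x, hx⟩
  have hhq : hh ∈ q := by
    rw [← IsLocalization.AtPrime.to_map_mem_maximal_iff (X.presheaf.stalk x) q]
    show X.presheaf.germ U x hx hh ∈ _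
    rw [hgh]; exact hm
  let ψ := IsLocalization.algEquiv q.primeCompl (Localization.AtPrime q) (X.presheaf.stalk x)
  have hdA : KaehlerDifferential.D Γ(S, V) (Localization.AtPrime q) (algebraMap Γ(X, U) _ hh) ∉
      maximalIdeal (Localization.AtPrime q) •
        (⊤ : Submodule (Localization.AtPrime q) Ω[Localization.AtPrime q⁄Γ(S, V)]) := fun hc => by
    letI := (f.stalkMap x).hom.toAlgebra
    haveI : IsLocalHom ψ.toRingEquiv.toRingHom := ⟨fun a ha => by simpa using ha.map ψ.symm⟩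
    refine hd ?_
    have := D_mem_smul_map (R' := S.presheaf.stalk (f x)) (B' := X.presheaf.stalk x)
      (S.presheaf.germ V (f x) (e hx)).hom ψ.toRingEquiv.toRingHom (fun r => by
        rw [IsScalarTower.algebraMap_apply Γ(S, V) Γ(X, U) (Localization.AtPrime q)]
        show ψ (algebraMap Γ(X, U) _ _) = (f.stalkMap x) (S.presheaf.germ V (f x) (e hx) r)
        rw [AlgEquiv.commutes, Scheme.Hom.germ_stalkMap_apply]
        show X.presheaf.germ U x hx ((f.appLE V U e) r) = _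
        simp only [Scheme.Hom.appLE]
        rw [CommRingCat.comp_apply, TopCat.Presheaf.germ_res_apply]) _ hc
    rw [show ψ.toRingEquiv.toRingHom (algebraMap Γ(X, U) (Localization.AtPrime q) hh) = h from
      (ψ.commutes hh).trans hgh] at this
    exact this
  let I : Ideal Γ(X, U) := Ideal.span {hh}
  have hIq : I ≤ q := Ideal.span_le.2 (Set.singleton_subset_iff.2 hhq)
  haveI : (q.map (Ideal.Quotient.mk I)).IsPrime :=
    Ideal.map_isPrime_of_surjective Ideal.Quotient.mk_surjective (by rw [Ideal.mk_ker]; exact hIq)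
  have hqP : q = (q.map (Ideal.Quotient.mk I)).comap (Ideal.Quotient.mk I) := by
    rw [Ideal.comap_map_of_surjective _ Ideal.Quotient.mk_surjective, ← RingHom.ker_eq_comap_bot, Ideal.mk_ker,
      sup_eq_left.2 hIq]
  haveI : Algebra.Smooth Γ(S, V) Γ(X, U) := hsm
  haveI : Algebra.IsSmoothAt Γ(S, V) q := Set.eq_univ_iff_forall.mp
    (Algebra.smoothLocus_eq_univ_iff.mpr (inferInstance : Algebra.FormallySmooth Γ(S, V) Γ(X, U))) ⟨q, inferInstance⟩
  haveI := isSmoothAt_quotient hh (q.map (Ideal.Quotient.mk I)) q hqP hdA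
  haveI : Algebra.FinitePresentation Γ(S, V) (Γ(X, U) ⧸ I) := Algebra.FinitePresentation.quotient ⟨{hh}, by simp [I]⟩
  obtain ⟨gb, hgb, hgs⟩ := Algebra.IsSmoothAt.exists_notMem_smooth Γ(S, V) (q.map (Ideal.Quotient.mk I))
  obtain ⟨g, rfl⟩ := Ideal.Quotient.mk_surjective gb
  have hgq : g ∉ q := fun hc => hgb (Ideal.mem_map_of_mem _ hc)
  let U₁ := X.basicOpen g
  have hx₁ : x ∈ U₁ := by
    rw [X.mem_basicOpen g x hx]
    exact (IsLocalization.AtPrime.isUnit_to_map_iff (X.presheaf.stalk x) q g).2 hgq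
  have hle₁ : U₁ ≤ U := X.basicOpen_le g
  haveI := hU.isLocalization_basicOpen g
  letI : Algebra Γ(S, V) Γ(X, U₁) := ((algebraMap Γ(X, U) Γ(X, U₁)).comp (algebraMap Γ(S, V) Γ(X, U))).toAlgebra
  haveI : IsScalarTower Γ(S, V) Γ(X, U) Γ(X, U₁) := .of_algebraMap_eq fun r => rfl
  have hsm₁ := smooth_away_quotient (R := Γ(S, V)) hh g (B := Γ(X, U₁)) hgs
  refine ⟨U₁, hU.basicOpen g, hx₁, algebraMap Γ(X, U) Γ(X, U₁) hh, ?_, ?_, ?_⟩
  · exact (TopCat.Presheaf.germ_res_apply _ (homOfLE hle₁) x hx₁ hh).trans hgh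
  · rw [mem_nonZeroDivisors_iff_right]
    intro z hz
    obtain ⟨⟨a, s⟩, has⟩ := IsLocalization.surj (Submonoid.powers g) z
    have h0 : algebraMap Γ(X, U) Γ(X, U₁) (a * hh) = algebraMap Γ(X, U) Γ(X, U₁) 0 := by
      rw [map_mul, ← has, map_zero, mul_right_comm, hz, zero_mul]
    obtain ⟨c, hc⟩ := (IsLocalization.eq_iff_exists (Submonoid.powers g) _).1 h0
    rw [mul_zero, ← mul_assoc] at hc
    have ha0 : algebraMap Γ(X, U) Γ(X, U₁) a = 0 :=
      (IsLocalization.map_eq_zero_iff (Submonoid.powers g) _ _).2 ⟨c, (mem_nonZeroDivisors_iff_right.1 hnz) _ hc⟩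
    exact ((IsLocalization.map_units Γ(X, U₁) s).mul_left_eq_zero).1 (has.trans ha0)
  · have e₁ : U₁ ≤ f ⁻¹ᵁ V := hle₁.trans e
    let qm := CommRingCat.ofHom (Ideal.Quotient.mk (Ideal.span {algebraMap Γ(X, U) Γ(X, U₁) hh}))
    have heq : Spec.map qm ≫ (hU.basicOpen g).fromSpec ≫ f = Spec.map (f.appLE V U₁ e₁ ≫ qm) ≫ hV.fromSpec := by
      rw [Spec.map_comp, Category.assoc, IsAffineOpen.SpecMap_appLE_fromSpec f hV (hU.basicOpen g) e₁]
    rw [heq]
    haveI : Smooth (Spec.map (f.appLE V U₁ e₁ ≫ qm)) := by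
      refine (HasRingHomProperty.Spec_iff (P := @Smooth)).2 ?_
      have : (f.appLE V U₁ e₁).hom = algebraMap Γ(S, V) Γ(X, U₁) := by
        rw [← Scheme.Hom.appLE_map f e (homOfLE hle₁).op]
        rfl
      show ((Ideal.Quotient.mk (Ideal.span {algebraMap Γ(X, U) Γ(X, U₁) hh})).comp (f.appLE V U₁ e₁).hom).Smooth
      rw [this]
      exact (RingHom.smooth_algebraMap (R := Γ(S, V)) (S := Γ(X, U₁) ⧸ Ideal.span {algebraMap Γ(X, U) Γ(X, U₁) hh})).2 hsm₁
    infer_instance

end Groth.Agent.SmCartier
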