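import Groth.Agent.RGLib.Jacobian
import Mathlib

/-!
Hypersurfaces in smooth algebras, over an arbitrary base: the differential criterion.
-/

set_option autoImplicit false
set_option linter.style.haveILetI false
universe u

open TensorProduct IsLocalRing

namespace Groth.Agent.SmCartier

open Groth.Agent.RGLib.Jacobian

/-- `1 ⊗ y = 0` in the fibre iff `y` lies in `m • ⊤`. -/
theorem one_tmul_eq_zero_iff {B : Type u} [CommRing B] [IsLocalRing B] {M : Type u} [AddCommGroup M] [Module B M]
    (y : M) : (1 : ResidueField B) ⊗ₜ[B] y = 0 ↔ y ∈ maximalIdeal B • (⊤ : Submodule B M) := by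
  refine ⟨mem_smul_of_tmul_eq_zero, fun h => ?_⟩
  refine Submodule.smul_induction_on h (fun c hc w _ => ?_) (fun a b ha hb => by rw [TensorProduct.tmul_add, ha, hb, add_zero])
  rw [← TensorProduct.smul_tmul, Algebra.smul_def, mul_one,
    show algebraMap B (ResidueField B) c = 0 from (residue_eq_zero_iff c).2 hc, TensorProduct.zero_tmul]

/-- Functoriality of `D g ∈ m • Ω`. -/
theorem D_mem_smul_map {R R' B B' : Type u} [CommRing R] [CommRing R'] [CommRing B] [IsLocalRing B]
    [CommRing B'] [IsLocalRing B'] [Algebra R B] [Algebra R' B'] (ρ : R →+* R') (φ : B →+* B') [IsLocalHom φ]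
    (hc : ∀ r, φ (algebraMap R B r) = algebraMap R' B' (ρ r)) (g : B)
    (h : KaehlerDifferential.D R B g ∈ maximalIdeal B • (⊤ : Submodule B Ω[B⁄R])) :
    KaehlerDifferential.D R' B' (φ g) ∈ maximalIdeal B' • (⊤ : Submodule B' Ω[B'⁄R']) := by
  letI := ρ.toAlgebra
  letI := φ.toAlgebra
  letI : Algebra R B' := ((algebraMap R' B').comp ρ).toAlgebra
  haveI : IsScalarTower R R' B' := .of_algebraMap_eq fun r => rfl
  haveI : IsScalarTower R B B' := .of_algebraMap_eq fun r => (hc r).symm
  let ψ := KaehlerDifferential.map R R' B B'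
  have hψ : ψ (KaehlerDifferential.D R B g) = KaehlerDifferential.D R' B' (φ g) := KaehlerDifferential.map_D _ _ _ _ g
  rw [← hψ]
  refine Submodule.smul_induction_on h (fun c hc w _ => ?_) (fun a b ha hb => by rw [map_add]; exact add_mem ha hb)
  rw [map_smul, ← IsScalarTower.algebraMap_smul B' c (ψ w)]
  exact Submodule.smul_mem_smul ((mem_maximalIdeal _).2 fun hu => (mem_maximalIdeal c).1 hc ((isUnit_map_iff φ c).1 hu)) trivial

/-- Elements coming from the maximal ideal of the base have vanishing differential in the fibre. -/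
theorem D_mem_smul_of_mem_map {R B : Type u} [CommRing R] [IsLocalRing R] [CommRing B] [IsLocalRing B]
    [Algebra R B] [IsLocalHom (algebraMap R B)] (g : B) (hg : g ∈ (maximalIdeal R).map (algebraMap R B)) :
    KaehlerDifferential.D R B g ∈ maximalIdeal B • (⊤ : Submodule B Ω[B⁄R]) := by
  have hle : (maximalIdeal R).map (algebraMap R B) ≤ maximalIdeal B := Ideal.map_le_iff_le_comap.2
    fun a ha => (mem_maximalIdeal _).2 fun hu => (mem_maximalIdeal a).1 ha ((isUnit_map_iff (algebraMap R B) a).1 hu)
  induction hg using Submodule.span_induction with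
  | mem x hx =>
    obtain ⟨a, -, rfl⟩ := hx
    rw [Derivation.map_algebraMap]
    exact zero_mem _
  | zero => rw [map_zero]; exact zero_mem _
  | add x y _ _ hx hy => rw [map_add]; exact add_mem hx hy
  | smul a x hx' hx =>
    rw [smul_eq_mul, Derivation.leibniz]
    exact add_mem (Submodule.smul_mem _ a hx)
      (Submodule.smul_mem_smul (hle hx') trivial)

variable {R A : Type u} [CommRing R] [CommRing A] [Algebra R A]

/-- The hypersurface cut out by an element with nonzero differential is smooth at the point. -/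
theorem isSmoothAt_quotient (h : A) (P : Ideal (A ⧸ Ideal.span {h})) [P.IsPrime]
    (q : Ideal A) [q.IsPrime] (hq : q = P.comap (Ideal.Quotient.mk (Ideal.span {h})))
    [Algebra.FiniteType R A] [Algebra.IsSmoothAt R q]
    (hd : KaehlerDifferential.D R (Localization.AtPrime q) (algebraMap A _ h) ∉
      maximalIdeal (Localization.AtPrime q) • (⊤ : Submodule (Localization.AtPrime q) Ω[Localization.AtPrime q⁄R])) :
    Algebra.IsSmoothAt R P := by
  subst hq
  let q := P.comap (Ideal.Quotient.mk (Ideal.span {h}))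
  let I : Ideal A := Ideal.span {h}
  let Aq := Localization.AtPrime q
  let S := Localization.AtPrime P
  haveI : Algebra.EssFiniteType A Aq := Algebra.EssFiniteType.of_isLocalization _ q.primeCompl
  haveI : Algebra.EssFiniteType R Aq := Algebra.EssFiniteType.comp R A _
  haveI : Algebra.FormallySmooth R Aq := ‹Algebra.IsSmoothAt R _›
  haveI : Module.Finite Aq Ω[Aq⁄R] := inferInstance
  haveI : Module.Free Aq Ω[Aq⁄R] := Module.free_of_flat_of_isLocalRing
  let ρ : Aq →+* S := Localization.localRingHom q P (Ideal.Quotient.mk I) rfl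
  letI : Algebra Aq S := ρ.toAlgebra
  haveI : IsScalarTower R Aq S := .of_algebraMap_eq fun r => by
    show _ = ρ (algebraMap R Aq r)
    rw [IsScalarTower.algebraMap_apply R A Aq, Localization.localRingHom_to_map]
    exact IsScalarTower.algebraMap_apply R (A ⧸ I) S r
  have hsurj : Function.Surjective (algebraMap Aq S) :=
    (RingHom.surjectiveOnStalks_of_surjective Ideal.Quotient.mk_surjective).localRingHom_surjective _ _ rfl
  have hT : Submonoid.map (Ideal.Quotient.mk I) q.primeCompl = P.primeCompl := by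
    ext z
    refine ⟨?_, fun hz => ?_⟩
    · rintro ⟨a, ha, rfl⟩
      exact ha
    · obtain ⟨a, rfl⟩ := Ideal.Quotient.mk_surjective z
      exact ⟨a, hz, rfl⟩
  have hker : RingHom.ker (algebraMap Aq S) = Ideal.span {algebraMap A Aq h} := by
    have := IsLocalization.ker_map (S := Aq) (M := q.primeCompl) (T := P.primeCompl) S (Ideal.Quotient.mk I) hT
    rw [Ideal.mk_ker, Ideal.map_span, Set.image_singleton] at this
    exact this
  let k := q.ResidueField
  haveI : IsLocalHom (algebraMap Aq S) := Localization.isLocalHom_localRingHom _ _ _ rfl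
  let g₀ : { g : Aq →+* k // RingHom.ker (algebraMap Aq S) ≤ RingHom.ker g } := ⟨algebraMap Aq k, fun z hz => by
    rw [RingHom.mem_ker] at hz ⊢
    refine (IsLocalRing.residue_eq_zero_iff _).2 fun hu => ?_
    have := hu.map (algebraMap Aq S)
    rw [hz] at this
    exact not_isUnit_zero this⟩
  let χ : S →+* k := (algebraMap Aq S).liftOfRightInverse _ (Function.rightInverse_surjInv hsurj) g₀
  letI : Algebra S k := χ.toAlgebra
  haveI : IsScalarTower Aq S k := .of_algebraMap_eq fun z => by
    show _ = χ (algebraMap Aq S z)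
    exact (RingHom.liftOfRightInverse_comp_apply (C := k) (algebraMap Aq S) _ (Function.rightInverse_surjInv hsurj) g₀ z).symm
  have hm : maximalIdeal S ≤ RingHom.ker (algebraMap S k) := fun z hz => by
    obtain ⟨w, rfl⟩ := hsurj z
    rw [RingHom.mem_ker, ← IsScalarTower.algebraMap_apply]
    exact (IsLocalRing.residue_eq_zero_iff _).2 fun hu => hz (hu.map _)
  have hhm : algebraMap Aq k (algebraMap A Aq h) = 0 := by
    refine g₀.2 ?_
    rw [hker]
    exact Ideal.mem_span_singleton_self _
  refine (Algebra.FormallySmooth.iff_injective_cotangentComplexBaseChange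
    (R := R) (S := S) Aq k hsurj (hker ▸ ⟨{algebraMap A Aq h}, by simp⟩) hm).2
    ((injective_iff_map_eq_zero _).2 fun z hz => ?_)
  obtain ⟨⟨y, hy⟩, rfl⟩ := exists_tmul_one (surjective_residueField q) z
  rw [KaehlerDifferential.cotangentComplexBaseChange_tmul, one_smul, KaehlerDifferential.kerToTensor_apply] at hz
  obtain ⟨c, rfl⟩ := Ideal.mem_span_singleton'.1 (hker ▸ hy)
  have hker' : algebraMap A Aq h ∈ RingHom.ker (algebraMap Aq S) := hker ▸ Ideal.mem_span_singleton_self _
  have he : (⟨c * algebraMap A Aq h, hy⟩ : RingHom.ker (algebraMap Aq S)) = c • ⟨algebraMap A Aq h, hker'⟩ := rfl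
  rw [he, TensorProduct.tmul_smul]
  by_cases hcm : c ∈ maximalIdeal Aq
  · rw [TensorProduct.smul_tmul', Algebra.smul_def, mul_one, show algebraMap Aq k c = 0 from (residue_eq_zero_iff c).2 hcm,
      TensorProduct.zero_tmul]
  · exfalso
    have hcu : IsUnit c := not_not.1 hcm
    rw [Derivation.leibniz, TensorProduct.tmul_add, TensorProduct.tmul_smul, TensorProduct.tmul_smul,
      TensorProduct.smul_tmul' (algebraMap A Aq h), Algebra.smul_def, mul_one, hhm, TensorProduct.zero_tmul, add_zero,
      hcu.smul_eq_zero] at hz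
    exact hd (mem_smul_of_tmul_eq_zero hz)

/-- Localising a quotient. -/
theorem smooth_away_quotient (h g : A) {B : Type u} [CommRing B] [Algebra R B] [Algebra A B]
    [IsScalarTower R A B] [IsLocalization.Away g B]
    (hs : Algebra.Smooth R (Localization.Away (Ideal.Quotient.mk (Ideal.span {h}) g))) :
    Algebra.Smooth R (B ⧸ Ideal.span {algebraMap A B h}) := by
  let I : Ideal A := Ideal.span {h}
  let J : Ideal B := Ideal.span {algebraMap A B h}
  have hJ : I.map (algebraMap A B) = J := by rw [Ideal.map_span, Set.image_singleton]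
  let φ : A ⧸ I →+* B ⧸ J := Ideal.quotientMap J (algebraMap A B)
    (Ideal.map_le_iff_le_comap.1 hJ.le)
  letI : Algebra (A ⧸ I) (B ⧸ J) := φ.toAlgebra
  have hloc : IsLocalization (Submonoid.powers (Ideal.Quotient.mk I g)) (B ⧸ J) := by
    refine (IsLocalization.iff_of_le_of_exists_dvd _ _ (le_refl _) fun m hm => ⟨m, hm, dvd_rfl⟩).1 ?_
    refine ⟨⟨?_, fun z => ?_, fun {x y} hxy => ?_⟩⟩
    · rintro ⟨_, n, rfl⟩
      rw [map_pow]
      refine IsUnit.pow n ?_
      show IsUnit (φ (Ideal.Quotient.mk I g))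
      rw [Ideal.quotientMap_mk]
      exact (IsLocalization.Away.algebraMap_isUnit g).map _
    · obtain ⟨b, rfl⟩ := Ideal.Quotient.mk_surjective z
      obtain ⟨⟨a, s⟩, hab⟩ := IsLocalization.surj (Submonoid.powers g) b
      obtain ⟨n, hn⟩ := s.2
      refine ⟨⟨Ideal.Quotient.mk I a, ⟨_, n, rfl⟩⟩, ?_⟩
      show Ideal.Quotient.mk J b * φ (Ideal.Quotient.mk I g ^ n) = φ (Ideal.Quotient.mk I a)
      rw [← map_pow, Ideal.quotientMap_mk, Ideal.quotientMap_mk, ← map_mul, ← hab, ← hn]
    · obtain ⟨a, rfl⟩ := Ideal.Quotient.mk_surjective x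
      obtain ⟨b, rfl⟩ := Ideal.Quotient.mk_surjective y
      change φ _ = φ _ at hxy
      rw [Ideal.quotientMap_mk, Ideal.quotientMap_mk, Ideal.Quotient.eq, ← map_sub, ← hJ,
        IsLocalization.algebraMap_mem_map_algebraMap_iff (Submonoid.powers g)] at hxy
      obtain ⟨s, ⟨n, rfl⟩, hs'⟩ := hxy
      refine ⟨⟨_, n, rfl⟩, ?_⟩
      show Ideal.Quotient.mk I g ^ n * _ = Ideal.Quotient.mk I g ^ n * _
      rw [← map_pow, ← map_mul, ← map_mul, Ideal.Quotient.eq, ← mul_sub]
      exact hs'
  haveI : IsScalarTower R (A ⧸ I) (B ⧸ J) := .of_algebraMap_eq fun r => by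
    show _ = φ (Ideal.Quotient.mk I (algebraMap R A r))
    rw [Ideal.quotientMap_mk, ← IsScalarTower.algebraMap_apply]
    rfl
  exact Algebra.Smooth.of_equiv ((IsLocalization.algEquiv (Submonoid.powers (Ideal.Quotient.mk I g))
    (Localization.Away (Ideal.Quotient.mk I g)) (B ⧸ J)).restrictScalars R)

end Groth.Agent.SmCartier
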